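import Groth.Prelude.Def_VecGrp
import Mathlib.AlgebraicGeometry.Morphisms.Flat
import Mathlib.AlgebraicGeometry.Morphisms.QuasiCompact
import Mathlib.RingTheory.LocalProperties.Basic

/-!
Affine charts of a group scheme and locality of vanishing of a module action.
-/

set_option autoImplicit false

universe u

open CategoryTheory MonObj GrpObj AlgebraicGeometry
open scoped TensorProduct

namespace Groth.Agent.Lib.GModStab

variable {R : Type u} [CommRing R]

theorem exists_pow_smul_eq_zero {C Q : Type u} [CommRing C] [Algebra R C] [AddCommGroup Q] [Module R Q]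
    (s : C) (y : C ⊗[R] Q)
    (h : VecGrp.Wmap (M := Q) (IsScalarTower.toAlgHom R C (Localization.Away s)) y = 0) :
    ∃ n : ℕ, s ^ n • y = 0 := by
  let L := LocalizedModule (Submonoid.powers s) (C ⊗[R] Q)
  let q : Q →ₗ[R] L :=
    (LocalizedModule.mkLinearMap (Submonoid.powers s) (C ⊗[R] Q)).restrictScalars R ∘ₗ TensorProduct.mk R C Q 1
  let Ψ : Localization.Away s ⊗[R] Q →ₗ[Localization.Away s] L := LinearMap.liftBaseChange _ q
  have key : ∀ y : C ⊗[R] Q, Ψ (VecGrp.Wmap (IsScalarTower.toAlgHom R C (Localization.Away s)) y) =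
      LocalizedModule.mkLinearMap (Submonoid.powers s) (C ⊗[R] Q) y := by
    intro y
    induction y using TensorProduct.induction_on with
    | zero => simp
    | tmul c x =>
      simp only [Ψ, q, VecGrp.Wmap_tmul, LinearMap.liftBaseChange_tmul, IsScalarTower.coe_toAlgHom',
        algebraMap_smul, LinearMap.comp_apply, TensorProduct.mk_apply, LinearMap.restrictScalars_apply]
      rw [← map_smul, TensorProduct.smul_tmul', smul_eq_mul, _root_.mul_one]
    | add a b ha hb => simp only [map_add, ha, hb]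
  have h0 := key y
  rw [h, map_zero] at h0
  obtain ⟨⟨_, n, rfl⟩, hn⟩ := (IsLocalizedModule.eq_zero_iff (Submonoid.powers s)
    (LocalizedModule.mkLinearMap (Submonoid.powers s) (C ⊗[R] Q))).1 h0.symm
  exact ⟨n, hn⟩

theorem eq_zero_of_local {C Q : Type u} [CommRing C] [Algebra R C] [AddCommGroup Q] [Module R Q] (y : C ⊗[R] Q)
    (h : ∀ p : PrimeSpectrum C, ∃ s ∉ p.asIdeal,
      VecGrp.Wmap (M := Q) (IsScalarTower.toAlgHom R C (Localization.Away s)) y = 0) : y = 0 := by
  let I : Ideal C := Ideal.torsionOf C (C ⊗[R] Q) y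
  have hI : I = ⊤ := by
    by_contra hne
    obtain ⟨m, hm, hle⟩ := Ideal.exists_le_maximal I hne
    obtain ⟨s, hs, h0⟩ := h ⟨m, hm.isPrime⟩
    obtain ⟨n, hn⟩ := exists_pow_smul_eq_zero s y h0
    exact hs (hm.isPrime.mem_of_pow_mem n (hle hn))
  have : (1 : C) ∈ I := by rw [hI]; trivial
  simpa [I] using this

variable (G : Over (Spec (CommRingCat.of R)))

/-- Finitely many affine flat charts covering `G`. -/
theorem exists_charts [Flat G.hom] [QuasiCompact G.hom] :
    ∃ (J : Type u) (_ : Finite J) (B : J → Type u) (_ : ∀ i, CommRing (B i)) (_ : ∀ i, Algebra R (B i))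
      (g : ∀ i, VecGrp.pt R (B i) ⟶ G), (∀ i, Module.Flat R (B i)) ∧
      ∀ (C : Type u) [CommRing C] [Algebra R C] (γ : VecGrp.pt R C ⟶ G) (p : PrimeSpectrum C),
        ∃ s ∉ p.asIdeal, ∃ (i : J) (φ : B i →ₐ[R] Localization.Away s),
          VecGrp.ptMap φ ≫ g i = VecGrp.ptMap (IsScalarTower.toAlgHom R C (Localization.Away s)) ≫ γ := by
  have : CompactSpace G.left := QuasiCompact.compactSpace_of_compactSpace G.hom
  obtain ⟨T, hT, hcov⟩ := (isCompact_iff_finite_and_eq_biUnion_affineOpens (U := (⊤ : G.left.Opens))).1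
    (by simpa using isCompact_univ (X := G.left))
  let φ : ∀ i : T, CommRingCat.of R ⟶ Γ(G.left, i.1.1) := fun i => Spec.preimage (i.1.2.fromSpec ≫ G.hom)
  let alg : ∀ i : T, Algebra R Γ(G.left, i.1.1) := fun i => (φ i).hom.toAlgebra
  have hw : ∀ i : T, i.1.2.fromSpec ≫ G.hom = Spec.map (φ i) := fun i => (Spec.map_preimage _).symm
  refine ⟨T, hT.to_subtype, fun i => Γ(G.left, i.1.1), fun i => inferInstance, alg,
    fun i => Over.homMk i.1.2.fromSpec (hw i), fun i => ?_, ?_⟩
  · have : Flat (i.1.2.fromSpec ≫ G.hom) := inferInstance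
    rw [hw] at this
    exact (HasRingHomProperty.Spec_iff (P := @Flat)).1 this
  · intro C _ _ γ p
    have hp : γ.left p ∈ (⊤ : G.left.Opens) := trivial
    rw [hcov] at hp
    obtain ⟨U, hU⟩ := TopologicalSpace.Opens.mem_iSup.1 hp
    obtain ⟨hUT, hpU⟩ := TopologicalSpace.Opens.mem_iSup.1 hU
    obtain ⟨_, ⟨_, ⟨s, rfl⟩, rfl⟩, hps, hsub⟩ := PrimeSpectrum.isBasis_basic_opens.exists_subset_of_mem_open
      (show p ∈ γ.left ⁻¹ᵁ U.1 from hpU) (γ.left ⁻¹ᵁ U.1).2
    let k : Spec (CommRingCat.of (Localization.Away s)) ⟶ Spec (CommRingCat.of C) :=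
      Spec.map (CommRingCat.ofHom (algebraMap C (Localization.Away s)))
    have hr : Set.range (k ≫ γ.left) ⊆ Set.range U.2.fromSpec := by
      rw [U.2.range_fromSpec]
      rintro _ ⟨t, rfl⟩
      exact hsub ((PrimeSpectrum.localization_away_comap_range (Localization.Away s) s).le ⟨t, rfl⟩)
    let l := IsOpenImmersion.lift U.2.fromSpec (k ≫ γ.left) hr
    have hl : l ≫ U.2.fromSpec = k ≫ γ.left := IsOpenImmersion.lift_fac _ _ _
    letI : Algebra R Γ(G.left, U.1) := alg ⟨U, hUT⟩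
    have hcomm : φ ⟨U, hUT⟩ ≫ Spec.preimage l = CommRingCat.ofHom (algebraMap R (Localization.Away s)) := by
      apply Spec.map_injective
      rw [Spec.map_comp, Spec.map_preimage, ← hw ⟨U, hUT⟩]
      show l ≫ U.2.fromSpec ≫ G.hom = _
      rw [← Category.assoc, hl, Category.assoc, Over.w γ]
      show Spec.map _ ≫ Spec.map _ = _
      rw [← Spec.map_comp]
      rfl
    refine ⟨s, hps, ⟨U, hUT⟩, ⟨(Spec.preimage l).hom, fun r => congr($(hcomm).hom r)⟩, ?_⟩
    refine Over.OverMorphism.ext ?_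
    show Spec.map (CommRingCat.ofHom (Spec.preimage l).hom) ≫ U.2.fromSpec = k ≫ γ.left
    rw [CommRingCat.ofHom_hom, Spec.map_preimage, hl]

variable {G} [GrpObj G] {E : Type u} [AddCommGroup E] [Module R E] (m : VecGrp.GMod G E)

/-- The composite of the action of a point with a map out of the module. -/
noncomputable def coeff {C : Type u} [CommRing C] [Algebra R C] {Q : Type u} [AddCommGroup Q] [Module R Q]
    (π : E →ₗ[R] Q) (g : VecGrp.pt R C ⟶ G) : E →ₗ[R] C ⊗[R] Q :=
  (π.baseChange C).restrictScalars R ∘ₗ (m.ρ C g).toLinearMap.restrictScalars R ∘ₗ TensorProduct.mk R C E 1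

theorem Wmap_coeff {C C' : Type u} [CommRing C] [Algebra R C] [CommRing C'] [Algebra R C'] {Q : Type u}
    [AddCommGroup Q] [Module R Q] (π : E →ₗ[R] Q) (φ : C →ₐ[R] C') (g : VecGrp.pt R C ⟶ G) (x : E) :
    VecGrp.Wmap φ (coeff m π g x) = coeff m π (VecGrp.ptMap φ ≫ g) x := by
  show VecGrp.Wmap φ (π.baseChange C (m.ρ C g (1 ⊗ₜ x))) = π.baseChange C' (m.ρ C' _ (1 ⊗ₜ x))
  rw [VecGrp.baseChange_natural, m.naturality, VecGrp.Wmap_tmul, map_one]

/-- Vanishing on the charts implies vanishing on every point. -/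
theorem coeff_eq_zero_of_charts {J : Type u} {B : J → Type u} [∀ i, CommRing (B i)] [∀ i, Algebra R (B i)]
    {g : ∀ i, VecGrp.pt R (B i) ⟶ G}
    (hg : ∀ (C : Type u) [CommRing C] [Algebra R C] (γ : VecGrp.pt R C ⟶ G) (p : PrimeSpectrum C),
        ∃ s ∉ p.asIdeal, ∃ (i : J) (φ : B i →ₐ[R] Localization.Away s),
          VecGrp.ptMap φ ≫ g i = VecGrp.ptMap (IsScalarTower.toAlgHom R C (Localization.Away s)) ≫ γ)
    {Q : Type u} [AddCommGroup Q] [Module R Q] (π : E →ₗ[R] Q) (x : E) (h : ∀ i, coeff m π (g i) x = 0)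
    {C : Type u} [CommRing C] [Algebra R C] (γ : VecGrp.pt R C ⟶ G) : coeff m π γ x = 0 := by
  refine eq_zero_of_local _ fun p => ?_
  obtain ⟨s, hs, i, φ, hφ⟩ := hg C γ p
  exact ⟨s, hs, by rw [Wmap_coeff, ← hφ, ← Wmap_coeff, h i, map_zero]⟩

theorem mem_range_iff {C : Type u} [CommRing C] [Algebra R C] (N : Submodule R E) (g : VecGrp.pt R C ⟶ G) (x : E) :
    m.ρ C g ((1 : C) ⊗ₜ[R] x) ∈ LinearMap.range (N.subtype.baseChange C) ↔ coeff m N.mkQ g x = 0 := by
  have he : Function.Exact (N.subtype.lTensor C) (N.mkQ.lTensor C) :=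
    lTensor_exact C (LinearMap.exact_subtype_mkQ N) N.mkQ_surjective
  exact (he _).symm

end Groth.Agent.Lib.GModStab
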