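import Groth.Agent.Lib.GModStab.Charts
import Mathlib.AlgebraicGeometry.Morphisms.QuasiSeparated
import Mathlib.RingTheory.Flat.Basic

/-!
Natural families with values in a flat module come from the global functions.
-/

set_option autoImplicit false
set_option backward.isDefEq.respectTransparency false
set_option backward.isDefEq.respectTransparency.types false

universe u

open CategoryTheory MonObj GrpObj AlgebraicGeometry
open scoped TensorProduct

namespace Groth.Agent.Lib.GModStab

variable {R : Type u} [CommRing R] (G : Over (Spec (CommRingCat.of R)))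

/-- The algebra of global functions. -/
@[instance_reducible]
noncomputable def algΓ : Algebra R Γ(G.left, ⊤) :=
  (((Scheme.ΓSpecIso (CommRingCat.of R)).inv ≫ G.hom.appTop).hom).toAlgebra

variable {G}

/-- Evaluation of global functions at a point. -/
noncomputable def evPt {C : Type u} [CommRing C] [Algebra R C] (γ : VecGrp.pt R C ⟶ G) :
    letI := algΓ G
    Γ(G.left, ⊤) →ₐ[R] C :=
  letI := algΓ G
  { (γ.left.appTop ≫ (Scheme.ΓSpecIso (CommRingCat.of C)).hom).hom with
    commutes' := fun r => by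
      show (γ.left.appTop ≫ (Scheme.ΓSpecIso (CommRingCat.of C)).hom).hom
        (((Scheme.ΓSpecIso (CommRingCat.of R)).inv ≫ G.hom.appTop).hom r) = algebraMap R C r
      have h : ((Scheme.ΓSpecIso (CommRingCat.of R)).inv ≫ G.hom.appTop) ≫
          γ.left.appTop ≫ (Scheme.ΓSpecIso (CommRingCat.of C)).hom = CommRingCat.ofHom (algebraMap R C) := by
        have hw : (γ.left ≫ G.hom).appTop = (Spec.map (CommRingCat.ofHom (algebraMap R C))).appTop := by
          rw [Over.w γ]; rfl
        rw [Scheme.Hom.comp_appTop] at hw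
        rw [Category.assoc, reassoc_of% hw, Scheme.ΓSpecIso_naturality, Iso.inv_hom_id_assoc]
      exact congr($(h).hom r) }

theorem evPt_ptMap {C C' : Type u} [CommRing C] [Algebra R C] [CommRing C'] [Algebra R C'] (φ : C →ₐ[R] C')
    (γ : VecGrp.pt R C ⟶ G) :
    letI := algΓ G
    evPt (VecGrp.ptMap φ ≫ γ) = φ.comp (evPt γ) := by
  letI := algΓ G
  refine AlgHom.ext fun a => ?_
  have h : (Spec.map (CommRingCat.ofHom φ.toRingHom) ≫ γ.left).appTop ≫ (Scheme.ΓSpecIso (CommRingCat.of C')).hom =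
      (γ.left.appTop ≫ (Scheme.ΓSpecIso (CommRingCat.of C)).hom) ≫ CommRingCat.ofHom φ.toRingHom := by
    rw [Scheme.Hom.comp_appTop, Category.assoc, Scheme.ΓSpecIso_naturality, Category.assoc]
  exact congr($(h).hom a)

variable (G)

theorem sections_aux [Flat G.hom] [QuasiCompact G.hom] [QuasiSeparated G.hom] (P : Type u) [AddCommGroup P] [Module R P]
    [Module.Flat R P] :
    letI := algΓ G
    (∀ z : Γ(G.left, ⊤) ⊗[R] P, (∀ (C : Type u) [CommRing C] [Algebra R C] (γ : VecGrp.pt R C ⟶ G),
      VecGrp.Wmap (evPt γ) z = 0) → z = 0) ∧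
    ∀ Ξ : ∀ (C : Type u) [CommRing C] [Algebra R C], (VecGrp.pt R C ⟶ G) → C ⊗[R] P,
      (∀ (C C' : Type u) [CommRing C] [Algebra R C] [CommRing C'] [Algebra R C'] (φ : C →ₐ[R] C')
        (γ : VecGrp.pt R C ⟶ G), VecGrp.Wmap φ (Ξ C γ) = Ξ C' (VecGrp.ptMap φ ≫ γ)) →
      ∃ z : Γ(G.left, ⊤) ⊗[R] P, ∀ (C : Type u) [CommRing C] [Algebra R C] (γ : VecGrp.pt R C ⟶ G),
        VecGrp.Wmap (evPt γ) z = Ξ C γ := by
  letI := algΓ G
  classical
  have : CompactSpace G.left := QuasiCompact.compactSpace_of_compactSpace G.hom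
  have : QuasiSeparatedSpace G.left := quasiSeparatedSpace_of_quasiSeparated G.hom
  obtain ⟨T, hT, hcov⟩ := (isCompact_iff_finite_and_eq_biUnion_affineOpens (U := (⊤ : G.left.Opens))).1
    (by simpa using isCompact_univ (X := G.left))
  have hint : ∀ p : T × T, ∃ S : Set G.left.affineOpens, S.Finite ∧ (p.1.1.1 ⊓ p.2.1.1) = ⨆ W ∈ S, W.1 := fun p =>
    (isCompact_iff_finite_and_eq_biUnion_affineOpens (U := p.1.1.1 ⊓ p.2.1.1)).1
      (QuasiSeparatedSpace.inter_isCompact _ _ p.1.1.1.2 p.1.1.2.isCompact p.2.1.1.2 p.2.1.2.isCompact)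
  choose S hS hSeq using hint
  let K := Σ p : T × T, S p
  have : Finite T := hT.to_subtype
  have : ∀ p, Finite (S p) := fun p => (hS p).to_subtype
  cases nonempty_fintype T
  cases nonempty_fintype K
  let sm : ∀ U : G.left.Opens, R →+* Γ(G.left, U) := fun U =>
    (G.left.presheaf.map (homOfLE (le_top : U ≤ ⊤)).op).hom.comp (algebraMap R Γ(G.left, ⊤))
  let res : ∀ {U V : G.left.Opens} (h : V ≤ U), letI := (sm U).toAlgebra; letI := (sm V).toAlgebra; Γ(G.left, U) →ₐ[R] Γ(G.left, V) :=
    fun {U V} h => letI := (sm U).toAlgebra; letI := (sm V).toAlgebra;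
      { (G.left.presheaf.map (homOfLE h).op).hom with
        commutes' := fun r => by
          show (G.left.presheaf.map (homOfLE h).op).hom ((G.left.presheaf.map (homOfLE (le_top : U ≤ ⊤)).op).hom _) =
            (G.left.presheaf.map (homOfLE (le_top : V ≤ ⊤)).op).hom _
          rw [← CommRingCat.comp_apply, ← G.left.presheaf.map_comp]
          rfl }
  let resTop : ∀ U : G.left.Opens, letI := (sm U).toAlgebra; Γ(G.left, ⊤) →ₐ[R] Γ(G.left, U) :=
    fun U => letI := (sm U).toAlgebra;
      { (G.left.presheaf.map (homOfLE (le_top : U ≤ ⊤)).op).hom with commutes' := fun r => by simp only [RingHom.algebraMap_toAlgebra]; rfl }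
  have hle₁ : ∀ k : K, k.2.1.1 ≤ k.1.1.1.1 := fun k =>
    ((le_biSup (fun W : G.left.affineOpens => W.1) k.2.2).trans (hSeq k.1).ge).trans inf_le_left
  have hle₂ : ∀ k : K, k.2.1.1 ≤ k.1.2.1.1 := fun k =>
    ((le_biSup (fun W : G.left.affineOpens => W.1) k.2.2).trans (hSeq k.1).ge).trans inf_le_right
  letI (i : T) : Algebra R Γ(G.left, i.1.1) := (sm _).toAlgebra
  letI (k : K) : Algebra R Γ(G.left, k.2.1.1) := (sm _).toAlgebra
  let F : Γ(G.left, ⊤) →ₗ[R] ∀ i : T, Γ(G.left, i.1.1) := LinearMap.pi fun i => (resTop i.1.1).toLinearMap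
  let d : (∀ i : T, Γ(G.left, i.1.1)) →ₗ[R] ∀ k : K, Γ(G.left, k.2.1.1) := LinearMap.pi fun k =>
    (res (hle₁ k)).toLinearMap ∘ₗ LinearMap.proj k.1.1 - (res (hle₂ k)).toLinearMap ∘ₗ LinearMap.proj k.1.2
  have hcov' : (⊤ : G.left.Opens) ≤ ⨆ i : T, i.1.1 := by rw [iSup_subtype'] at hcov; exact hcov.le
  have hFinj : Function.Injective F := fun a b hab =>
    TopCat.Sheaf.eq_of_locally_eq' G.left.sheaf (fun i : T => i.1.1) ⊤ (fun i => homOfLE le_top) hcov' a b
      fun i => congr_fun hab i
  have hex : Function.Exact F d := by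
    intro y
    constructor
    · intro hy
      have hcompat : TopCat.Presheaf.IsCompatible G.left.presheaf (fun i : T => i.1.1) y := by
        intro i j
        refine TopCat.Sheaf.eq_of_locally_eq' G.left.sheaf (fun W : S (i, j) => W.1.1) _
          (fun W => homOfLE ((le_biSup (fun W : G.left.affineOpens => W.1) W.2).trans (hSeq (i, j)).ge))
          (by have h := (hSeq (i, j)).le; rw [iSup_subtype'] at h; exact h) _ _ fun W => ?_
        have h := sub_eq_zero.1 (congr_fun hy (⟨(i, j), W⟩ : K))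
        show (G.left.presheaf.map _).hom ((G.left.presheaf.map _).hom (y i)) =
          (G.left.presheaf.map _).hom ((G.left.presheaf.map _).hom (y j))
        rw [← CommRingCat.comp_apply, ← G.left.presheaf.map_comp, ← CommRingCat.comp_apply, ← G.left.presheaf.map_comp]
        exact h
      obtain ⟨a, ha, -⟩ := TopCat.Sheaf.existsUnique_gluing' G.left.sheaf (fun i : T => i.1.1) ⊤
        (fun i => homOfLE le_top) hcov' y hcompat
      exact ⟨a, funext fun i => ha i⟩
    · rintro ⟨a, rfl⟩
      refine funext fun k => sub_eq_zero.2 ?_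
      show (G.left.presheaf.map _).hom ((G.left.presheaf.map _).hom a) =
        (G.left.presheaf.map _).hom ((G.left.presheaf.map _).hom a)
      rw [← CommRingCat.comp_apply, ← G.left.presheaf.map_comp, ← CommRingCat.comp_apply, ← G.left.presheaf.map_comp]
      rfl
  have hF : ∀ (z : Γ(G.left, ⊤) ⊗[R] P) (i : T),
      TensorProduct.piRight R R P (fun i : T => Γ(G.left, i.1.1))
          ((TensorProduct.comm R _ P) (F.rTensor P z)) i =
        (TensorProduct.comm R _ P) (VecGrp.Wmap (resTop i.1.1) z) := by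
    intro z i
    induction z using TensorProduct.induction_on with
    | zero => simp
    | tmul a p => simp [F]
    | add p q hp hq => simp only [map_add, Pi.add_apply, hp, hq]
  have hd : ∀ (w : (∀ i : T, Γ(G.left, i.1.1)) ⊗[R] P) (k : K),
      TensorProduct.piRight R R P (fun k : K => Γ(G.left, k.2.1.1))
          ((TensorProduct.comm R _ P) (d.rTensor P w)) k =
        ((res (hle₁ k)).toLinearMap.lTensor P) (TensorProduct.piRight R R P (fun i : T => Γ(G.left, i.1.1))
          ((TensorProduct.comm R _ P) w) k.1.1) -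
        ((res (hle₂ k)).toLinearMap.lTensor P) (TensorProduct.piRight R R P (fun i : T => Γ(G.left, i.1.1))
          ((TensorProduct.comm R _ P) w) k.1.2) := by
    intro w k
    induction w using TensorProduct.induction_on with
    | zero => simp
    | tmul a p => simp [d, TensorProduct.tmul_sub]
    | add p q hp hq => simp only [map_add, Pi.add_apply, hp, hq]; abel
  -- the charts
  let g : ∀ i : T, VecGrp.pt R Γ(G.left, i.1.1) ⟶ G := fun i => Over.homMk i.1.2.fromSpec (by
    refine ext_of_isAffine ?_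
    rw [Scheme.Hom.comp_appTop, Scheme.Hom.appTop, Scheme.Hom.appTop, i.1.2.fromSpec_app_of_le ⊤ le_top]
    show G.hom.appTop ≫ _ = (Spec.map (CommRingCat.ofHom ((G.left.presheaf.map (homOfLE le_top).op).hom.comp
      ((Scheme.ΓSpecIso (CommRingCat.of R)).inv ≫ G.hom.appTop).hom))).appTop
    rw [CommRingCat.ofHom_comp, CommRingCat.ofHom_hom, CommRingCat.ofHom_hom, Spec.map_comp, Spec.map_comp,
      Scheme.Hom.comp_appTop, Scheme.Hom.comp_appTop, ← cancel_mono (Scheme.ΓSpecIso _).hom]
    simp [Scheme.ΓSpecIso_naturality])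
  have hev : ∀ i : T, evPt (g i) = resTop i.1.1 := fun i => by
    have h : i.1.2.fromSpec.appTop ≫ (Scheme.ΓSpecIso Γ(G.left, i.1.1)).hom =
        G.left.presheaf.map (homOfLE (le_top : i.1.1 ≤ ⊤)).op := by
      rw [Scheme.Hom.appTop, i.1.2.fromSpec_app_of_le ⊤ le_top]
      simp
    exact AlgHom.ext fun a => congr($(h).hom a)
  have hfac : ∀ (C : Type u) [CommRing C] [Algebra R C] (γ : VecGrp.pt R C ⟶ G) (p : PrimeSpectrum C),
      ∃ s ∉ p.asIdeal, ∃ (i : T) (φ : Γ(G.left, i.1.1) →ₐ[R] Localization.Away s),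
        VecGrp.ptMap φ ≫ g i = VecGrp.ptMap (IsScalarTower.toAlgHom R C (Localization.Away s)) ≫ γ := by
    intro C _ _ γ p
    have hp : γ.left p ∈ (⊤ : G.left.Opens) := trivial
    obtain ⟨i, hpU⟩ := TopologicalSpace.Opens.mem_iSup.1 (hcov' hp)
    obtain ⟨_, ⟨_, ⟨s, rfl⟩, rfl⟩, hps, hsub⟩ := PrimeSpectrum.isBasis_basic_opens.exists_subset_of_mem_open
      (show p ∈ γ.left ⁻¹ᵁ i.1.1 from hpU) (γ.left ⁻¹ᵁ i.1.1).2
    let k : Spec (CommRingCat.of (Localization.Away s)) ⟶ Spec (CommRingCat.of C) :=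
      Spec.map (CommRingCat.ofHom (algebraMap C (Localization.Away s)))
    have hr : Set.range (k ≫ γ.left) ⊆ Set.range i.1.2.fromSpec := by
      rw [i.1.2.range_fromSpec]
      rintro _ ⟨t, rfl⟩
      exact hsub ((PrimeSpectrum.localization_away_comap_range (Localization.Away s) s).le ⟨t, rfl⟩)
    let l := IsOpenImmersion.lift i.1.2.fromSpec (k ≫ γ.left) hr
    have hl : l ≫ i.1.2.fromSpec = k ≫ γ.left := IsOpenImmersion.lift_fac _ _ _
    have hcomm : CommRingCat.ofHom (algebraMap R Γ(G.left, i.1.1)) ≫ Spec.preimage l =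
        CommRingCat.ofHom (algebraMap R (Localization.Away s)) := by
      apply Spec.map_injective
      rw [Spec.map_comp, Spec.map_preimage]
      show l ≫ (VecGrp.pt R Γ(G.left, i.1.1)).hom = _
      rw [← Over.w (g i)]
      show l ≫ i.1.2.fromSpec ≫ G.hom = _
      rw [← Category.assoc, hl, Category.assoc, Over.w γ]
      show Spec.map _ ≫ Spec.map _ = _
      rw [← Spec.map_comp]
      rfl
    refine ⟨s, hps, i, ⟨(Spec.preimage l).hom, fun r => congr($(hcomm).hom r)⟩, ?_⟩
    refine Over.OverMorphism.ext ?_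
    show Spec.map (CommRingCat.ofHom (Spec.preimage l).hom) ≫ i.1.2.fromSpec = k ≫ γ.left
    rw [CommRingCat.ofHom_hom, Spec.map_preimage, hl]
  have hinjP : Function.Injective (F.rTensor P) := Module.Flat.rTensor_preserves_injective_linearMap F hFinj
  refine ⟨fun z hz => hinjP ?_, fun Ξ hΞ => ?_⟩
  · rw [map_zero]
    apply (TensorProduct.comm R _ P).injective
    apply (TensorProduct.piRight R R P fun i : T => Γ(G.left, i.1.1)).injective
    refine funext fun i => ?_
    rw [hF, ← hev, hz, map_zero, map_zero, map_zero]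
    rfl
  · let w : (∀ i : T, Γ(G.left, i.1.1)) ⊗[R] P := (TensorProduct.comm R _ P).symm
      ((TensorProduct.piRight R R P fun i : T => Γ(G.left, i.1.1)).symm
        fun i => TensorProduct.comm R _ P (Ξ _ (g i)))
    have hw : d.rTensor P w = 0 := by
      apply (TensorProduct.comm R _ P).injective
      apply (TensorProduct.piRight R R P fun k : K => Γ(G.left, k.2.1.1)).injective
      refine funext fun k => ?_
      rw [hd, map_zero, map_zero, Pi.zero_apply]
      simp only [w, LinearEquiv.apply_symm_apply]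
      have hn : ∀ (i : T) (h : k.2.1.1 ≤ i.1.1), VecGrp.Wmap (res h) (Ξ _ (g i)) =
          Ξ _ (Over.homMk (U := VecGrp.pt R Γ(G.left, k.2.1.1)) k.2.1.2.fromSpec (by
            rw [← i.1.2.map_fromSpec k.2.1.2 (homOfLE h).op, Category.assoc]
            exact (congrArg (Spec.map _ ≫ ·) (Over.w (g i))).trans (Over.w (VecGrp.ptMap (res h))))) :=
        fun i h => by
          rw [hΞ]
          congr 1
          refine Over.OverMorphism.ext ?_
          exact i.1.2.map_fromSpec k.2.1.2 (homOfLE h).op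
      have hc : ∀ (i : T) (h : k.2.1.1 ≤ i.1.1) (y : Γ(G.left, i.1.1) ⊗[R] P),
          (res h).toLinearMap.lTensor P (TensorProduct.comm R _ P y) = TensorProduct.comm R _ P (VecGrp.Wmap (res h) y) := by
        intro i h y
        induction y using TensorProduct.induction_on with
        | zero => simp
        | tmul a p => simp
        | add p q hp hq => simp only [map_add, hp, hq]
      rw [hc, hc, hn, hn, sub_self]
    obtain ⟨z, hz⟩ := (Module.Flat.rTensor_exact P hex w).1 hw
    refine ⟨z, fun C _ _ γ => sub_eq_zero.1 (eq_zero_of_local _ fun p => ?_)⟩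
    obtain ⟨s, hs, i, φ, hφ⟩ := hfac C γ p
    refine ⟨s, hs, ?_⟩
    rw [map_sub, hΞ, sub_eq_zero, ← hφ, ← hΞ]
    have h1 : VecGrp.Wmap (resTop i.1.1) z = Ξ _ (g i) := by
      apply (TensorProduct.comm R _ P).injective
      rw [← hF, hz]
      simp [w]
    have hcomp : ∀ (A₁ A₂ A₃ : Type u) [CommRing A₁] [Algebra R A₁] [CommRing A₂] [Algebra R A₂] [CommRing A₃]
        [Algebra R A₃] (f : A₁ →ₐ[R] A₂) (f' : A₂ →ₐ[R] A₃) (y : A₁ ⊗[R] P),
        VecGrp.Wmap f' (VecGrp.Wmap f y) = VecGrp.Wmap (f'.comp f) y := by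
      intro A₁ A₂ A₃ _ _ _ _ _ _ f f' y
      induction y using TensorProduct.induction_on with
      | zero => simp
      | tmul a p => simp
      | add p q hp hq => simp only [map_add, hp, hq]
    rw [← h1, hcomp, hcomp, ← hev, ← evPt_ptMap, ← evPt_ptMap, hφ]

end Groth.Agent.Lib.GModStab
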