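import Groth.Agent.Lib.GModStab.Charts

/-!
The submodule of elements with coefficients in a given submodule is stable, over a flat group scheme.
-/

set_option autoImplicit false

universe u

open CategoryTheory MonObj GrpObj AlgebraicGeometry
open scoped TensorProduct

namespace Groth.Agent.Lib.GModStab

variable {R : Type u} [CommRing R] {G : Over (Spec (CommRingCat.of R))} [GrpObj G]
  {E : Type u} [AddCommGroup E] [Module R E] (m : VecGrp.GMod G E)

/-- Iterating two coefficient maps gives the coefficient of the product. -/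
theorem coeff_comp {A B Q : Type u} [CommRing A] [Algebra R A] [CommRing B] [Algebra R B] [AddCommGroup Q] [Module R Q]
    (π : E →ₗ[R] Q) (a : VecGrp.pt R A ⟶ G) (b : VecGrp.pt R B ⟶ G) (x : E) :
    (TensorProduct.assoc R A B Q).symm ((coeff m π b).lTensor A (m.ρ A a (1 ⊗ₜ x))) =
      coeff m π ((VecGrp.ptMap (Algebra.TensorProduct.includeRight : B →ₐ[R] A ⊗[R] B) ≫ b) *
        (VecGrp.ptMap (Algebra.TensorProduct.includeLeft : A →ₐ[R] A ⊗[R] B) ≫ a)) x := by
  let i₁ : A →ₐ[R] A ⊗[R] B := Algebra.TensorProduct.includeLeft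
  let i₂ : B →ₐ[R] A ⊗[R] B := Algebra.TensorProduct.includeRight
  have hassoc : ∀ (c : A) (z : B ⊗[R] Q),
      (TensorProduct.assoc R A B Q).symm (c ⊗ₜ z) = i₁ c • VecGrp.Wmap i₂ z := by
    intro c z
    induction z using TensorProduct.induction_on with
    | zero => simp
    | tmul d q => simp [i₁, i₂, TensorProduct.smul_tmul']
    | add p q hp hq => simp only [TensorProduct.tmul_add, map_add, smul_add, hp, hq]
  have key : ∀ y : A ⊗[R] E, (TensorProduct.assoc R A B Q).symm ((coeff m π b).lTensor A y) =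
      π.baseChange (A ⊗[R] B) (m.ρ (A ⊗[R] B) (VecGrp.ptMap i₂ ≫ b) (VecGrp.Wmap i₁ y)) := by
    intro y
    induction y using TensorProduct.induction_on with
    | zero => simp
    | tmul c e =>
      rw [LinearMap.lTensor_tmul, hassoc, Wmap_coeff,
        show VecGrp.Wmap (M := E) i₁ (c ⊗ₜ e) = i₁ c • ((1 : A ⊗[R] B) ⊗ₜ[R] e) by
          rw [VecGrp.Wmap_tmul, TensorProduct.smul_tmul', smul_eq_mul, _root_.mul_one], map_smul, map_smul]
      rfl
    | add p q hp hq => simp only [map_add, hp, hq]
  rw [key, m.naturality, VecGrp.Wmap_tmul, map_one, ← LinearEquiv.mul_apply, ← map_mul]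
  rfl

theorem subtype_baseChange_inclusion {C : Type u} [CommRing C] [Algebra R C] {N N' : Submodule R E} (h : N ≤ N')
    (y : C ⊗[R] N) : N'.subtype.baseChange C ((Submodule.inclusion h).baseChange C y) = N.subtype.baseChange C y := by
  induction y using TensorProduct.induction_on with
  | zero => simp
  | tmul c e => simp
  | add p q hp hq => simp only [map_add, hp, hq]

variable {J : Type u} [Finite J] {B : J → Type u} [∀ i, CommRing (B i)] [∀ i, Algebra R (B i)]
  [∀ i, Module.Flat R (B i)] (g : ∀ i, VecGrp.pt R (B i) ⟶ G)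

/-- The elements all whose coefficients lie in `N₀`. -/
noncomputable def stab (N₀ : Submodule R E) : Submodule R E :=
  LinearMap.ker (LinearMap.pi fun i => coeff m N₀.mkQ (g i))

theorem stab_le (hg : ∀ (C : Type u) [CommRing C] [Algebra R C] (γ : VecGrp.pt R C ⟶ G) (p : PrimeSpectrum C),
        ∃ s ∉ p.asIdeal, ∃ (i : J) (φ : B i →ₐ[R] Localization.Away s),
          VecGrp.ptMap φ ≫ g i = VecGrp.ptMap (IsScalarTower.toAlgHom R C (Localization.Away s)) ≫ γ)
    (N₀ : Submodule R E) : stab m g N₀ ≤ N₀ := by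
  intro x hx
  have h := coeff_eq_zero_of_charts m hg N₀.mkQ x (fun i => congr_fun (LinearMap.mem_ker.1 hx) i)
    (1 : VecGrp.pt R R ⟶ G)
  have h' : coeff m N₀.mkQ (1 : VecGrp.pt R R ⟶ G) x = (1 : R) ⊗ₜ[R] N₀.mkQ x := by
    simp [coeff]
  rw [h'] at h
  have := congrArg (TensorProduct.lid R (E ⧸ N₀)) h
  simpa using this

theorem stab_stable (hg : ∀ (C : Type u) [CommRing C] [Algebra R C] (γ : VecGrp.pt R C ⟶ G) (p : PrimeSpectrum C),
        ∃ s ∉ p.asIdeal, ∃ (i : J) (φ : B i →ₐ[R] Localization.Away s),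
          VecGrp.ptMap φ ≫ g i = VecGrp.ptMap (IsScalarTower.toAlgHom R C (Localization.Away s)) ≫ γ)
    (N₀ : Submodule R E) (C : Type u) [CommRing C] [Algebra R C] (γ : VecGrp.pt R C ⟶ G) (x : E)
    (hx : x ∈ stab m g N₀) :
    m.ρ C γ ((1 : C) ⊗ₜ[R] x) ∈ LinearMap.range ((stab m g N₀).subtype.baseChange C) := by
  cases nonempty_fintype J
  rw [mem_range_iff]
  refine coeff_eq_zero_of_charts m hg _ x (fun i => ?_) γ
  rw [← mem_range_iff]
  let Φ : E →ₗ[R] ∀ j, B j ⊗[R] (E ⧸ N₀) := LinearMap.pi fun j => coeff m N₀.mkQ (g j)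
  have hex : Function.Exact ((stab m g N₀).subtype.lTensor (B i)) (Φ.lTensor (B i)) :=
    Module.Flat.lTensor_exact (B i) (LinearMap.exact_subtype_ker_map Φ)
  refine (hex _).1 ?_
  classical
  refine (TensorProduct.piRight R R (B i) fun j => B j ⊗[R] (E ⧸ N₀)).injective (funext fun j => ?_)
  have e : ∀ y : B i ⊗[R] E, (TensorProduct.piRight R R (B i) fun j => B j ⊗[R] (E ⧸ N₀)) (Φ.lTensor (B i) y) j =
      (coeff m N₀.mkQ (g j)).lTensor (B i) y := by
    intro y
    induction y using TensorProduct.induction_on with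
    | zero => simp
    | tmul c e => simp [Φ]
    | add p q hp hq => simp only [map_add, Pi.add_apply, hp, hq]
  rw [e, map_zero, Pi.zero_apply]
  apply (TensorProduct.assoc R (B i) (B j) (E ⧸ N₀)).symm.injective
  rw [map_zero, coeff_comp]
  exact coeff_eq_zero_of_charts m hg _ x (fun k => congr_fun (LinearMap.mem_ker.1 hx) k) _

/-- A finitely generated submodule containing all coefficients of a finitely generated one. -/
theorem exists_le_stab (M : Submodule R E) (hM : M.FG) :
    ∃ N₀ : Submodule R E, N₀.FG ∧ M ≤ stab m g N₀ := by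
  cases nonempty_fintype J
  obtain ⟨s, hs⟩ := hM
  have h : ∀ (i : J) (x : E), ∃ N : Submodule R E, N.FG ∧
      m.ρ (B i) (g i) ((1 : B i) ⊗ₜ[R] x) ∈ LinearMap.range (N.subtype.baseChange (B i)) := by
    intro i x
    generalize m.ρ (B i) (g i) ((1 : B i) ⊗ₜ[R] x) = y
    induction y using TensorProduct.induction_on with
    | zero => exact ⟨⊥, Submodule.fg_bot, Submodule.zero_mem _⟩
    | tmul b e =>
      exact ⟨Submodule.span R {e}, Submodule.fg_span_singleton e,
        b ⊗ₜ ⟨e, Submodule.mem_span_singleton_self e⟩, rfl⟩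
    | add p q hp hq =>
      obtain ⟨N₁, hN₁, p', rfl⟩ := hp
      obtain ⟨N₂, hN₂, q', rfl⟩ := hq
      refine ⟨N₁ ⊔ N₂, hN₁.sup hN₂, (Submodule.inclusion le_sup_left).baseChange (B i) p' +
        (Submodule.inclusion le_sup_right).baseChange (B i) q', ?_⟩
      rw [map_add, subtype_baseChange_inclusion, subtype_baseChange_inclusion]
  choose N hN hmem using h
  classical
  refine ⟨s.sup fun x => Finset.univ.sup fun i => N i x, ?_, ?_⟩
  · exact Submodule.fg_finset_sup _ _ fun x _ => Submodule.fg_finset_sup _ _ fun i _ => hN i x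
  · rw [← hs, Submodule.span_le]
    intro x hx
    simp only [stab, SetLike.mem_coe, LinearMap.mem_ker]
    refine funext fun i => ?_
    rw [LinearMap.pi_apply, Pi.zero_apply, ← mem_range_iff]
    obtain ⟨y, hy⟩ := hmem i x
    have hle : N i x ≤ s.sup fun x => Finset.univ.sup fun i => N i x :=
      (Finset.le_sup (f := fun i => N i x) (Finset.mem_univ i)).trans
        (Finset.le_sup (f := fun x => Finset.univ.sup fun i => N i x) hx)
    refine ⟨(Submodule.inclusion hle).baseChange (B i) y, ?_⟩
    rw [subtype_baseChange_inclusion, hy]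

end Groth.Agent.Lib.GModStab
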